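import Mathlib.CategoryTheory.Sites.SheafCohomology.Cech
import Mathlib.Algebra.Homology.Additive
import Mathlib.CategoryTheory.Limits.Preserves.Shapes.Products
import Mathlib.CategoryTheory.Limits.Constructions.FiniteProductsOfBinaryProducts
import Mathlib.CategoryTheory.Preadditive.AdditiveFunctor

/-!
# Cech complexes under additive functors and changes of the index category
-/

set_option autoImplicit false
set_option linter.style.haveILetI false
set_option backward.isDefEq.respectTransparency false
set_option backward.defeqAttrib.useBackward true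

universe w v v' v'' u u' u''

open CategoryTheory CategoryTheory.Limits Opposite

namespace Groth.Agent.H83.RelCechBC

variable {C : Type u} [Category.{v} C] [HasFiniteProducts C]
  {A : Type u'} [Category.{v'} A] [HasProducts.{w} A] [Preadditive A]
  {ι : Type w} (U : ι → C)

/-- Cech cosimplicial object. -/
noncomputable abbrev cs (P : Cᵒᵖ ⥤ A) : CosimplicialObject A :=
  (FormalCoproduct.cosimplicialObjectFunctor (FormalCoproduct.mk _ U).cech).obj P

section Push

variable {B : Type u''} [Category.{v''} B] [HasProducts.{w} B] [Preadditive B]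
  (K : A ⥤ B) [K.Additive]

/-- An additive functor against a coface complex. -/
noncomputable def mapAlternatingIso (X : CosimplicialObject A) :
    (K.mapHomologicalComplex (ComplexShape.up ℕ)).obj
        ((AlgebraicTopology.alternatingCofaceMapComplex A).obj X) ≅
      (AlgebraicTopology.alternatingCofaceMapComplex B).obj (((CosimplicialObject.whiskering A B).obj K).obj X) :=
  HomologicalComplex.Hom.isoOfComponents (fun _ => Iso.refl _) (fun i j hij => by
    obtain rfl : i + 1 = j := hij
    dsimp [AlgebraicTopology.alternatingCofaceMapComplex, AlgebraicTopology.AlternatingCofaceMapComplex.obj]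
    simp [CochainComplex.of_d, AlgebraicTopology.AlternatingCofaceMapComplex.objD, Functor.map_sum,
      Functor.map_zsmul, CosimplicialObject.δ])

variable [HasFiniteProducts A] [Finite ι]

set_option linter.unusedSectionVars false in

omit [HasProducts.{w} A] [HasProducts.{w} B] in
lemma preservesLimitsOfShape_discrete (J : Type w) [Finite J] :
    PreservesLimitsOfShape (Discrete J) K := by
  obtain ⟨n, ⟨e⟩⟩ := Finite.exists_equiv_fin J
  haveI : PreservesFiniteProducts K := inferInstance
  exact preservesLimitsOfShape_of_equiv (Discrete.equivalence e.symm) K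

/-- An additive functor against the Cech cosimplicial object. -/
noncomputable def mapCsIso (P : Cᵒᵖ ⥤ A) :
    ((CosimplicialObject.whiskering A B).obj K).obj (cs U P) ≅ cs U (P ⋙ K) :=
  NatIso.ofComponents
    (fun n =>
      haveI : PreservesLimitsOfShape (Discrete (Fin (n.len + 1) → ι)) K :=
        preservesLimitsOfShape_discrete K _
      asIso (piComparison K (fun i : Fin (n.len + 1) → ι => P.obj (op (∏ᶜ (U ∘ i))))))
    (fun {n m} φ => by
      refine Pi.hom_ext _ _ fun i => ?_
      dsimp [cs, FormalCoproduct.cosimplicialObjectFunctor, FormalCoproduct.evalOp]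
      simp only [Category.assoc, piComparison_comp_π, Pi.lift_π, piComparison_comp_π_assoc]
      simp only [← Functor.map_comp, Pi.lift_π]
      )

/-- An additive functor against the Cech complex. -/
noncomputable def mapCechIso (P : Cᵒᵖ ⥤ A) :
    (K.mapHomologicalComplex (ComplexShape.up ℕ)).obj ((cechComplexFunctor U).obj P) ≅
      (cechComplexFunctor U).obj (P ⋙ K) :=
  mapAlternatingIso K (cs U P) ≪≫
    (AlgebraicTopology.alternatingCofaceMapComplex B).mapIso (mapCsIso U K P)

end Push

section Change

omit [Preadditive A] in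
@[reassoc]
lemma mapIso_π {J : Type w} {f g : J → A} (a : ∀ j, f j ≅ g j) (j : J) :
    (Pi.mapIso a).hom ≫ Pi.π g j = Pi.π f j ≫ (a j).hom :=
  limMap_π _ _

variable {C' : Type u''} [Category.{v''} C'] [HasFiniteProducts C'] [Quiver.IsThin C']
  (Φ : C ⥤ C') (U' : ι → C')
  (e : ∀ (n : ℕ) (i : Fin (n + 1) → ι), Φ.obj (∏ᶜ (U ∘ i)) ≅ ∏ᶜ (U' ∘ i))

/-- Change of the index category of a Cech cosimplicial object. -/
noncomputable def changeCsIso (P' : C'ᵒᵖ ⥤ A) : cs U (Φ.op ⋙ P') ≅ cs U' P' :=
  NatIso.ofComponents (fun n => Pi.mapIso fun i => P'.mapIso (e n.len i).symm.op)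
    (fun {n m} φ => by
      refine Pi.hom_ext _ _ fun i => ?_
      dsimp [cs, FormalCoproduct.cosimplicialObjectFunctor, FormalCoproduct.evalOp]
      simp only [Category.assoc]
      erw [mapIso_π, Pi.lift_π_assoc, Pi.lift_π, mapIso_π_assoc]
      simp only [Category.assoc]
      erw [← P'.map_comp, ← P'.map_comp]
      congr 2
      exact Quiver.Hom.unop_inj (Subsingleton.elim _ _))

/-- Change of the index category of a Cech complex. -/
noncomputable def changeCechIso (P' : C'ᵒᵖ ⥤ A) :
    (cechComplexFunctor U).obj (Φ.op ⋙ P') ≅ (cechComplexFunctor U').obj P' :=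
  (AlgebraicTopology.alternatingCofaceMapComplex A).mapIso (changeCsIso U Φ U' e P')

end Change

/-- A morphism of coefficient systems, invertible on the products, gives an isomorphism. -/
theorem isIso_cech_map {P Q : Cᵒᵖ ⥤ A} (θ : P ⟶ Q)
    (h : ∀ (n : ℕ) (i : Fin (n + 1) → ι), IsIso (θ.app (op (∏ᶜ (U ∘ i))))) :
    IsIso ((cechComplexFunctor U).map θ) := by
  let E : cs U P ≅ cs U Q := NatIso.ofComponents
    (fun n => Pi.mapIso fun i => @asIso _ _ _ _ (θ.app (op (∏ᶜ (U ∘ i)))) (h n.len i))
    (fun {n m} φ => ((FormalCoproduct.cosimplicialObjectFunctor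
      (FormalCoproduct.mk _ U).cech).map θ).naturality φ)
  have hE : ((FormalCoproduct.cosimplicialObjectFunctor (FormalCoproduct.mk _ U).cech).map θ) = E.hom := by
    ext n
    rfl
  change IsIso ((AlgebraicTopology.alternatingCofaceMapComplex A).map _)
  erw [hE]
  infer_instance

end Groth.Agent.H83.RelCechBC
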