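import Groth.Agent.H83.RelCechBC.Term
import Groth.Agent.H83.RelCechBC.Generic

/-!
# Base change for relative Cech complexes
-/

set_option autoImplicit false
set_option linter.style.haveILetI false
set_option linter.unusedSectionVars false

universe u

open CategoryTheory CategoryTheory.Limits AlgebraicGeometry Opposite TopologicalSpace

namespace Groth.Agent.H83.RelCechBC

section Gen

variable {CX CW CW' CX' CS CS' : Type*} [Category CX] [Category CW] [Category CW'] [Category CX']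
  [Category CS] [Category CS'] {F : CX ⥤ CS} {jW : CW ⥤ CX} {r : CW' ⥤ CW} {jW' : CW' ⥤ CX'}
  {fp : CX' ⥤ CS'} {gp : CS' ⥤ CS} {pb : CS ⥤ CS'} {Jf : CW ⥤ CS} {Jf' : CW' ⥤ CS'} {gx : CX' ⥤ CX}

lemma gen_eq (adj : pb ⊣ gp) (c : jW ⋙ F ≅ Jf) (K : r ⋙ Jf ≅ Jf' ⋙ gp) (c' : jW' ⋙ fp ≅ Jf')
    (R : r ⋙ jW ≅ jW' ⋙ gx) (w : gx ⋙ F ≅ fp ⋙ gp)
    (hcoh : ∀ Q, F.map (R.hom.app Q) ≫ w.hom.app (jW'.obj Q) =
      c.hom.app (r.obj Q) ≫ K.hom.app Q ≫ gp.map (c'.inv.app Q))
    {M : CW} {P N : CW'} (η : M ⟶ r.obj P) (ψ : P ⟶ N) :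
    (adj.homEquiv _ _).symm (F.map (jW.map (η ≫ r.map ψ) ≫ R.hom.app N) ≫ w.hom.app _) =
      pb.map (c.hom.app M) ≫ (adj.homEquiv _ _).symm (Jf.map η ≫ K.hom.app P) ≫
        Jf'.map ψ ≫ c'.inv.app N := by
  apply (adj.homEquiv _ _).injective
  rw [Equiv.apply_symm_apply, Adjunction.homEquiv_naturality_left,
    Adjunction.homEquiv_naturality_right, Equiv.apply_symm_apply]
  have h1 : F.map (jW.map (η ≫ r.map ψ)) ≫ c.hom.app (r.obj N) =
      c.hom.app M ≫ Jf.map (η ≫ r.map ψ) := c.hom.naturality _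
  have h2 : Jf.map (r.map ψ) ≫ K.hom.app N = K.hom.app P ≫ gp.map (Jf'.map ψ) := K.hom.naturality ψ
  rw [F.map_comp, Category.assoc, hcoh, ← Category.assoc (F.map _), h1, Functor.map_comp,
    gp.map_comp]
  simp only [Category.assoc]
  rw [← Category.assoc (Jf.map (r.map ψ)), h2]
  simp only [Category.assoc]

end Gen

variable {X S X' S' : Scheme.{u}} {f : X ⟶ S} {g : S' ⟶ S} {g' : X' ⟶ X} {f' : X' ⟶ S'}
  (h : IsPullback g' f' f g)

/-- The two ways around the square. -/
noncomputable def sw : Scheme.Modules.pushforward g' ⋙ Scheme.Modules.pushforward f ≅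
    Scheme.Modules.pushforward f' ⋙ Scheme.Modules.pushforward g :=
  Scheme.Modules.pushforwardComp _ _ ≪≫ Scheme.Modules.pushforwardCongr h.w ≪≫
    (Scheme.Modules.pushforwardComp _ _).symm

variable (W : X.Opens) (F : X.Modules)

/-- The transposed base change map of a term. -/
noncomputable def σf : (Scheme.Modules.pushforward f).obj ((CechOX.pushRestr W).obj F) ⟶
    (Scheme.Modules.pushforward g).obj ((Scheme.Modules.pushforward f').obj
      ((CechOX.pushRestr (g' ⁻¹ᵁ W)).obj ((Scheme.Modules.pullback g').obj F))) :=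
  (Scheme.Modules.pushforward f).map (σ g' W F) ≫ (sw h).hom.app _

/-- The base change map of a term. -/
noncomputable def θ : (Scheme.Modules.pullback g).obj ((Scheme.Modules.pushforward f).obj
      ((CechOX.pushRestr W).obj F)) ⟶ (Scheme.Modules.pushforward f').obj
      ((CechOX.pushRestr (g' ⁻¹ᵁ W)).obj ((Scheme.Modules.pullback g').obj F)) :=
  ((Scheme.Modules.pullbackPushforwardAdjunction g).homEquiv _ _).symm (σf h W F)

variable {W} in
lemma θ_natural {W₂ : X.Opens} (hle : W₂ ≤ W) :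
    (Scheme.Modules.pullback g).map ((Scheme.Modules.pushforward f).map
        ((CechOX.pushRestrMap hle).app F)) ≫ θ h W₂ F =
      θ h W F ≫ (Scheme.Modules.pushforward f').map
        ((CechOX.pushRestrMap (g'.preimage_mono hle)).app ((Scheme.Modules.pullback g').obj F)) := by
  apply ((Scheme.Modules.pullbackPushforwardAdjunction g).homEquiv _ _).injective
  rw [Adjunction.homEquiv_naturality_left, Adjunction.homEquiv_naturality_right, θ, θ,
    Equiv.apply_symm_apply, Equiv.apply_symm_apply, σf, σf, ← Functor.map_comp_assoc, σ_natural g' F hle,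
    Functor.map_comp_assoc, Category.assoc]
  exact congrArg (_ ≫ ·) ((sw h).hom.naturality _)

include h in
/-- The square of the restrictions. -/
lemma sq : IsPullback (g' ∣_ W) ((g' ⁻¹ᵁ W).ι ≫ f') (W.ι ≫ f) g :=
  (isPullback_morphismRestrict g' W).paste_vert h

lemma coherence (Q : Scheme.Modules (g' ⁻¹ᵁ W).toScheme) :
    (Scheme.Modules.pushforward f).map ((swapR g' W).hom.app Q) ≫ (sw h).hom.app _ =
      (Scheme.Modules.pushforwardComp W.ι f).hom.app _ ≫
        (Scheme.Modules.pushforwardComp (g' ∣_ W) (W.ι ≫ f)).hom.app Q ≫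
        (Scheme.Modules.pushforwardCongr (sq h W).w).hom.app Q ≫
        (Scheme.Modules.pushforwardComp ((g' ⁻¹ᵁ W).ι ≫ f') g).inv.app Q ≫
        (Scheme.Modules.pushforward g).map
          ((Scheme.Modules.pushforwardComp (g' ⁻¹ᵁ W).ι f').inv.app Q) := by
  apply Scheme.Modules.hom_ext
  intro V
  ext n
  simp [sw, swapR]
  exact res_res Q _ _ _ _

theorem θ_eq : θ h W F = (Scheme.Modules.pullback g).map
      ((Scheme.Modules.pushforwardComp W.ι f).hom.app (F.restrict W.ι)) ≫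
    ZarCoh.AffineBC.bc (sq h W) (F.restrict W.ι) ≫
    (Scheme.Modules.pushforward ((g' ⁻¹ᵁ W).ι ≫ f')).map ((ψ g' W).hom.app F) ≫
    (Scheme.Modules.pushforwardComp (g' ⁻¹ᵁ W).ι f').inv.app _ :=
  gen_eq (Scheme.Modules.pullbackPushforwardAdjunction g) (Scheme.Modules.pushforwardComp W.ι f)
    (Scheme.Modules.pushforwardComp (g' ∣_ W) (W.ι ≫ f) ≪≫
      Scheme.Modules.pushforwardCongr (sq h W).w ≪≫
      (Scheme.Modules.pushforwardComp ((g' ⁻¹ᵁ W).ι ≫ f') g).symm)
    (Scheme.Modules.pushforwardComp (g' ⁻¹ᵁ W).ι f') (swapR g' W) (sw h)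
    (fun Q => (coherence h W Q).trans (by simp)) _ _

theorem isIso_θ [F.IsQuasicoherent] [IsAffineHom (W.ι ≫ f)] : IsIso (θ h W F) := by
  haveI : (F.restrict W.ι).IsQuasicoherent := inferInstance
  haveI := ZarCoh.AffineBC.isIso_bc (sq h W) (F.restrict W.ι)
  rw [θ_eq h W F]
  infer_instance

variable {ι : Type u} [Finite ι] (U : ι → X.Opens)

/-- The preimage functor on opens. -/
noncomputable abbrev Φ (g' : X' ⟶ X) : X.Opens ⥤ X'.Opens := Opens.map g'.base

lemma preimage_prod {n : ℕ} (i : Fin (n + 1) → ι) :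
    g' ⁻¹ᵁ (∏ᶜ (U ∘ i) : X.Opens) = ∏ᶜ ((fun j => g' ⁻¹ᵁ U j) ∘ i) := by
  apply le_antisymm
  · exact leOfHom (Pi.lift fun a => homOfLE (g'.preimage_mono (leOfHom (Pi.π (U ∘ i) a))))
  · have h1 : ∀ a, (∏ᶜ ((fun j => g' ⁻¹ᵁ U j) ∘ i) : X'.Opens) ≤ g' ⁻¹ᵁ U (i a) := fun a =>
      leOfHom (Pi.π ((fun j => g' ⁻¹ᵁ U j) ∘ i) a)
    intro x hx
    have h2 : (⨅ a, U (i a)) ≤ (∏ᶜ (U ∘ i) : X.Opens) :=
      leOfHom (Pi.lift fun a => homOfLE (iInf_le _ a))
    refine h2 ?_
    rw [← SetLike.mem_coe, Opens.coe_iInf, Set.mem_iInter]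
    exact fun a => h1 a hx

/-- The base change maps as a morphism of coefficient systems. -/
noncomputable def θNat :
    ((CechOX.pushRestrFam (X := X)).flip.obj F ⋙
        Scheme.Modules.pushforward f ⋙ Scheme.Modules.pullback g) ⟶
      (Φ g').op ⋙ (CechOX.pushRestrFam (X := X')).flip.obj ((Scheme.Modules.pullback g').obj F) ⋙
        Scheme.Modules.pushforward f' where
  app W := θ h W.unop F
  naturality _ _ i := θ_natural h F (leOfHom i.unop)

include h in
/-- Base change of a relative Cech complex. -/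
theorem nonempty_relCech_iso [F.IsQuasicoherent] [(Scheme.Modules.pullback g).Additive]
    (hU : ∀ (n : ℕ) (i : Fin (n + 1) → ι), IsAffineHom ((∏ᶜ (U ∘ i) : X.Opens).ι ≫ f)) :
    Nonempty (((Scheme.Modules.pullback g).mapHomologicalComplex (ComplexShape.up ℕ)).obj
        ((CechOX.relCech U f).obj F) ≅
      (CechOX.relCech (fun i => g' ⁻¹ᵁ U i) f').obj ((Scheme.Modules.pullback g').obj F)) := by
  let P := (CechOX.pushRestrFam (X := X)).flip.obj F
  let P' := (CechOX.pushRestrFam (X := X')).flip.obj ((Scheme.Modules.pullback g').obj F)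
  haveI := isIso_cech_map U (θNat h F) fun n i => haveI := hU n i; isIso_θ h _ F
  exact ⟨(((Scheme.Modules.pullback g).mapHomologicalComplex (ComplexShape.up ℕ)).mapIso
      (mapCechIso U (Scheme.Modules.pushforward f) P)) ≪≫
    mapCechIso U (Scheme.Modules.pullback g) (P ⋙ Scheme.Modules.pushforward f) ≪≫
    asIso ((cechComplexFunctor U).map (θNat h F)) ≪≫
    changeCechIso U (Φ g') (fun i => g' ⁻¹ᵁ U i) (fun n i => eqToIso (preimage_prod U i))
      (P' ⋙ Scheme.Modules.pushforward f') ≪≫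
    (mapCechIso (fun i => g' ⁻¹ᵁ U i) (Scheme.Modules.pushforward f') P').symm⟩

end Groth.Agent.H83.RelCechBC
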