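import Groth.Agent.H83.RelCech.Basic
import Groth.Agent.H83.RelCechBC.Main

/-!
# Base change for relative Cech complexes and derived direct images
-/

set_option autoImplicit false
set_option linter.style.haveILetI false
set_option linter.unusedSectionVars false

universe u

open CategoryTheory CategoryTheory.Limits AlgebraicGeometry

attribute [local instance] HasDerivedCategory.standard

namespace Groth.Agent.H83.RelCechBC

open Groth.Agent.H83 Groth.Agent.Lib

theorem main {X S S' : Scheme.{u}} (f : X ⟶ S) [CompactSpace X]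
    [IsAffineHom (pullback.diagonal (terminal.from X))] [IsAffineHom (pullback.diagonal (terminal.from S))]
    (F : X.Modules) [F.IsQuasicoherent] {ι : Type u} [Finite ι] (U : ι → X.Opens)
    (hU : ∀ i, IsAffineOpen (U i)) (hcov : ⨆ i, U i = ⊤) (g : S' ⟶ S)
    [(Scheme.Modules.pullback g).Additive] [DCoh.HasRpush (pullback.snd f g)] :
    Nonempty (((Scheme.Modules.pullback g).mapHomologicalComplex (ComplexShape.up ℕ)).obj
        ((CechOX.relCech U f).obj F) ≅
      (CechOX.relCech (fun i => (pullback.fst f g) ⁻¹ᵁ (U i)) (pullback.snd f g)).obj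
        ((Scheme.Modules.pullback (pullback.fst f g)).obj F)) ∧
    Nonempty (DCoh.toD S' ((((Scheme.Modules.pullback g).mapHomologicalComplex (ComplexShape.up ℕ)).obj
        ((CechOX.relCech U f).obj F)).extend ComplexShape.embeddingUpNat) ≅
      (DCoh.Rpush (pullback.snd f g)).obj
        (DCoh.inD _ ((Scheme.Modules.pullback (pullback.fst f g)).obj F))) := by
  let h := IsPullback.of_hasPullback f g
  have hUf := fun (p : ℕ) (i : Fin (p + 1) → ι) => RelCech.isAffineHom_ι_comp U f hU i
  obtain ⟨e⟩ := nonempty_relCech_iso h F U (fun p i => hUf p i)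
  refine ⟨⟨e⟩, ?_⟩
  obtain ⟨_, _⟩ := RelCech.qcqs f
  let g' := pullback.fst f g
  let f' := pullback.snd f g
  haveI : QuasiCompact f' := MorphismProperty.of_isPullback h ‹_›
  haveI : QuasiSeparated f' := MorphismProperty.of_isPullback h ‹_›
  haveI := QCoh.Pullback.isQCoh_pullback g' F
  have hι' : ∀ (p : ℕ) (i : Fin (p + 1) → ι),
      IsAffineHom (∏ᶜ ((fun j => g' ⁻¹ᵁ U j) ∘ i) : (pullback f g).Opens).ι := fun p i => by
    haveI := RelCech.isAffineHom_ι U hU i
    rw [← preimage_prod U i]
    exact MorphismProperty.of_isPullback (isPullback_morphismRestrict g' _) ‹_›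
  have hιf' : ∀ (p : ℕ) (i : Fin (p + 1) → ι),
      IsAffineHom ((∏ᶜ ((fun j => g' ⁻¹ᵁ U j) ∘ i) : (pullback f g).Opens).ι ≫ f') := fun p i => by
    haveI := hUf p i
    rw [← preimage_prod U i]
    exact MorphismProperty.of_isPullback (sq h _) ‹_›
  have hcov' : ⨆ i, g' ⁻¹ᵁ U i = ⊤ := by
    rw [← Scheme.Hom.preimage_iSup, hcov]
    rfl
  obtain ⟨-, ⟨e'⟩⟩ := RelCech.main_gen (fun i => g' ⁻¹ᵁ U i)
    ((Scheme.Modules.pullback g').obj F) hι' f' hιf' hcov'
  exact ⟨DerivedCategory.Q.mapIso ((ComplexShape.embeddingUpNat.extendFunctor _).mapIso e) ≪≫ e'⟩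

end Groth.Agent.H83.RelCechBC
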