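import Groth.Prelude.Def_CechOX
import Groth.Agent.Lib.ZarCoh.AffineBC

/-!
# Base change for the terms of a relative Cech complex
-/

set_option autoImplicit false
set_option linter.style.haveILetI false

universe u

open CategoryTheory CategoryTheory.Limits AlgebraicGeometry Opposite

namespace Groth.Agent.H83.RelCechBC

section Gen

variable {C D E : Type*} [Category C] [Category D] [Category E]

lemma unit_gen {L₁ : C ⥤ D} {R₁ : D ⥤ C} {L₂ : D ⥤ E} {R₂ : E ⥤ D} {L' : C ⥤ E} {R' : E ⥤ C}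
    (a₁ : L₁ ⊣ R₁) (a₂ : L₂ ⊣ R₂) (a' : L' ⊣ R') (e : R₂ ⋙ R₁ ≅ R') (X : C) :
    a₁.unit.app X ≫ R₁.map (a₂.unit.app (L₁.obj X) ≫
        R₂.map ((((a₁.comp a₂).ofNatIsoRight e).leftAdjointUniq a').hom.app X)) ≫ e.hom.app _ =
      a'.unit.app X := by
  rw [← Adjunction.unit_leftAdjointUniq_hom_app ((a₁.comp a₂).ofNatIsoRight e) a' X]
  simp [Adjunction.comp]
  congr 2
  exact e.hom.naturality _

lemma unit_comp_gen {L₁ : C ⥤ D} {R₁ : D ⥤ C} {L₂ : D ⥤ E} {R₂ : E ⥤ D}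
    (a₁ : L₁ ⊣ R₁) (a₂ : L₂ ⊣ R₂) (X : C) :
    (a₁.comp a₂).unit.app X = a₁.unit.app X ≫ R₁.map (a₂.unit.app (L₁.obj X)) := by
  simp [Adjunction.comp]

end Gen

/-- Composing restriction maps. -/
lemma res_res {Z : Scheme.{u}} (G : Z.Modules) {A B C : Z.Opens} (i : op A ⟶ op B) (j : op B ⟶ op C)
    (k : op A ⟶ op C) (x : Γ(G, A)) : G.presheaf.map j (G.presheaf.map i x) = G.presheaf.map k x := by
  rw [← ConcreteCategory.comp_apply, ← Functor.map_comp]
  exact congrArg (fun t => G.presheaf.map t x) (Quiver.Hom.unop_inj (Subsingleton.elim _ _))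

variable {X X' : Scheme.{u}} (g' : X' ⟶ X) (W : X.Opens)

/-- The two adjunctions from `O_X`-modules to modules on the preimage of `W`. -/
noncomputable def adjA : Scheme.Modules.pullback g' ⋙ Scheme.Modules.restrictFunctor (g' ⁻¹ᵁ W).ι ⊣
    Scheme.Modules.pushforward (g' ⁻¹ᵁ W).ι ⋙ Scheme.Modules.pushforward g' :=
  (Scheme.Modules.pullbackPushforwardAdjunction g').comp (Scheme.Modules.restrictAdjunction _)

/-- Commutation of the two direct images. -/
noncomputable def swapR : Scheme.Modules.pushforward (g' ∣_ W) ⋙ Scheme.Modules.pushforward W.ι ≅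
    Scheme.Modules.pushforward (g' ⁻¹ᵁ W).ι ⋙ Scheme.Modules.pushforward g' :=
  Scheme.Modules.pushforwardComp _ _ ≪≫ Scheme.Modules.pushforwardCongr (morphismRestrict_ι g' W) ≪≫
    (Scheme.Modules.pushforwardComp _ _).symm

noncomputable def adjB : Scheme.Modules.restrictFunctor W.ι ⋙ Scheme.Modules.pullback (g' ∣_ W) ⊣
    Scheme.Modules.pushforward (g' ⁻¹ᵁ W).ι ⋙ Scheme.Modules.pushforward g' :=
  ((Scheme.Modules.restrictAdjunction W.ι).comp
    (Scheme.Modules.pullbackPushforwardAdjunction (g' ∣_ W))).ofNatIsoRight (swapR g' W)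

/-- Restriction commutes with inverse image. -/
noncomputable def ψ : Scheme.Modules.restrictFunctor W.ι ⋙ Scheme.Modules.pullback (g' ∣_ W) ≅
    Scheme.Modules.pullback g' ⋙ Scheme.Modules.restrictFunctor (g' ⁻¹ᵁ W).ι :=
  (adjB g' W).leftAdjointUniq (adjA g' W)

variable (F : X.Modules)

/-- The transpose of `ψ`. -/
noncomputable def ρ : F.restrict W.ι ⟶
    (Scheme.Modules.pushforward (g' ∣_ W)).obj
      (((Scheme.Modules.pullback g').obj F).restrict (g' ⁻¹ᵁ W).ι) :=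
  (Scheme.Modules.pullbackPushforwardAdjunction (g' ∣_ W)).unit.app _ ≫
    (Scheme.Modules.pushforward (g' ∣_ W)).map ((ψ g' W).hom.app F)

lemma unit_ρ : (Scheme.Modules.restrictAdjunction W.ι).unit.app F ≫
      (Scheme.Modules.pushforward W.ι).map (ρ g' W F) ≫ (swapR g' W).hom.app _ =
    (adjA g' W).unit.app F :=
  unit_gen (Scheme.Modules.restrictAdjunction W.ι)
    (Scheme.Modules.pullbackPushforwardAdjunction (g' ∣_ W)) (adjA g' W) (swapR g' W) F

/-- The map `(j_W)_*(F|_W) ⟶ g'_* (j_{W'})_*((g'^*F)|_{W'})`. -/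
noncomputable def σ : (CechOX.pushRestr W).obj F ⟶ (Scheme.Modules.pushforward g').obj
    ((CechOX.pushRestr (g' ⁻¹ᵁ W)).obj ((Scheme.Modules.pullback g').obj F)) :=
  (Scheme.Modules.pushforward W.ι).map (ρ g' W F) ≫ (swapR g' W).hom.app _

lemma le_img (V : X.Opens) : (g' ⁻¹ᵁ W).ι ''ᵁ ((g' ⁻¹ᵁ W).ι ⁻¹ᵁ (g' ⁻¹ᵁ V)) ≤
    g' ⁻¹ᵁ (W.ι ''ᵁ (W.ι ⁻¹ᵁ V)) := by
  rw [Scheme.Hom.image_preimage_eq_opensRange_inf, Scheme.Hom.image_preimage_eq_opensRange_inf,
    Scheme.Opens.opensRange_ι, Scheme.Opens.opensRange_ι]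
  exact le_rfl

/-- The unit of `adjA` on sections. -/
lemma adjA_unit_app (O : X.Opens) (n : Γ(F, O)) :
    ((adjA g' W).unit.app F).app O n = ((Scheme.Modules.pullback g').obj F).presheaf.map
      (homOfLE ((g' ⁻¹ᵁ W).ι.image_preimage_le (g' ⁻¹ᵁ O))).op
        (((Scheme.Modules.pullbackPushforwardAdjunction g').unit.app F).app O n) := by
  have h : (adjA g' W).unit.app F = (Scheme.Modules.pullbackPushforwardAdjunction g').unit.app F ≫
      (Scheme.Modules.pushforward g').map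
        ((Scheme.Modules.restrictAdjunction (g' ⁻¹ᵁ W).ι).unit.app _) :=
    unit_comp_gen _ _ F
  rw [h]
  rfl

lemma unit_σ : (Scheme.Modules.restrictAdjunction W.ι).unit.app F ≫ σ g' W F =
    (adjA g' W).unit.app F := unit_ρ g' W F

set_option maxHeartbeats 800000 in
/-- `σ` is the unit on sections. -/
lemma σ_app (V : X.Opens) (n : Γ((CechOX.pushRestr W).obj F, V)) :
    (σ g' W F).app V n = ((Scheme.Modules.pullback g').obj F).presheaf.map (homOfLE (le_img g' W V)).op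
      (((Scheme.Modules.pullbackPushforwardAdjunction g').unit.app F).app (W.ι ''ᵁ (W.ι ⁻¹ᵁ V)) n) := by
  let G := (Scheme.Modules.pullback g').obj F
  let T := (Scheme.Modules.pushforward g').obj ((CechOX.pushRestr (g' ⁻¹ᵁ W)).obj G)
  let O : X.Opens := W.ι ''ᵁ (W.ι ⁻¹ᵁ V)
  have hle : O ≤ V := Scheme.Hom.image_preimage_le _ _
  have hO : O ≤ W.ι ''ᵁ (W.ι ⁻¹ᵁ O) := by
    rw [Scheme.Hom.preimage_image_eq]
  have hOW : O ≤ W.ι ''ᵁ (W.ι ⁻¹ᵁ V) := le_rfl
  have h1 : T.presheaf.map (homOfLE hle).op ((σ g' W F).app V n) =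
      (σ g' W F).app O (((CechOX.pushRestr W).obj F).presheaf.map (homOfLE hle).op n) :=
    (congrArg (fun k => k n) (congrArg ConcreteCategory.hom
      (CechOX.app_naturality (σ g' W F) (homOfLE hle).op))).symm
  have h2 : ((CechOX.pushRestr W).obj F).presheaf.map (homOfLE hle).op n =
      ((Scheme.Modules.restrictAdjunction W.ι).unit.app F).app O n := by
    rw [Scheme.Modules.restrictAdjunction_unit_app_app]
    rfl
  have h3 : (σ g' W F).app O (((Scheme.Modules.restrictAdjunction W.ι).unit.app F).app O n) =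
      ((adjA g' W).unit.app F).app O n := by
    rw [← unit_σ]
    rfl
  rw [h2, h3] at h1
  have h4 : ((adjA g' W).unit.app F).app O n = G.presheaf.map
      (homOfLE ((g' ⁻¹ᵁ W).ι.image_preimage_le (g' ⁻¹ᵁ O))).op
        (((Scheme.Modules.pullbackPushforwardAdjunction g').unit.app F).app O n) :=
    adjA_unit_app g' W F O _
  rw [h4] at h1
  have hge : g' ⁻¹ᵁ W ⊓ g' ⁻¹ᵁ V ≤ g' ⁻¹ᵁ W ⊓ g' ⁻¹ᵁ O := by
    intro x hx
    refine ⟨hx.1, ?_⟩
    show g' x ∈ W.ι ''ᵁ (W.ι ⁻¹ᵁ V)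
    rw [Scheme.Hom.image_preimage_eq_opensRange_inf, Scheme.Opens.opensRange_ι]
    exact hx
  have hge' : (g' ⁻¹ᵁ W).ι ''ᵁ ((g' ⁻¹ᵁ W).ι ⁻¹ᵁ (g' ⁻¹ᵁ V)) ≤
      (g' ⁻¹ᵁ W).ι ''ᵁ ((g' ⁻¹ᵁ W).ι ⁻¹ᵁ (g' ⁻¹ᵁ O)) := by
    rw [Scheme.Hom.image_preimage_eq_opensRange_inf, Scheme.Hom.image_preimage_eq_opensRange_inf,
      Scheme.Opens.opensRange_ι]
    exact hge
  refine Eq.trans ?_ ((congrArg (fun k => G.presheaf.map (homOfLE hge').op k) h1).trans
    (res_res G _ _ _ _))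
  have hA : (g' ⁻¹ᵁ W).ι ''ᵁ ((g' ⁻¹ᵁ W).ι ⁻¹ᵁ (g' ⁻¹ᵁ O)) ≤
      (g' ⁻¹ᵁ W).ι ''ᵁ ((g' ⁻¹ᵁ W).ι ⁻¹ᵁ (g' ⁻¹ᵁ V)) :=
    (g' ⁻¹ᵁ W).ι.image_mono ((g' ⁻¹ᵁ W).ι.preimage_mono (g'.preimage_mono hle))
  let y : Γ(G, (g' ⁻¹ᵁ W).ι ''ᵁ ((g' ⁻¹ᵁ W).ι ⁻¹ᵁ (g' ⁻¹ᵁ V))) := (σ g' W F).app V n
  show y = G.presheaf.map (homOfLE hge').op (G.presheaf.map (homOfLE hA).op y)
  rw [res_res G _ _ (𝟙 _) y, G.presheaf.map_id]
  rfl

variable {W} in
/-- `σ` commutes with restriction between opens. -/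
lemma σ_natural {W₂ : X.Opens} (h : W₂ ≤ W) :
    (CechOX.pushRestrMap h).app F ≫ σ g' W₂ F = σ g' W F ≫
      (Scheme.Modules.pushforward g').map
        ((CechOX.pushRestrMap (g'.preimage_mono h)).app
          ((Scheme.Modules.pullback g').obj F)) := by
  apply Scheme.Modules.hom_ext
  intro V
  ext n
  let G := (Scheme.Modules.pullback g').obj F
  let η := (Scheme.Modules.pullbackPushforwardAdjunction g').unit.app F
  let i := homOfLE (CechOX.image_preimage_mono h V)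
  have hn := congrArg (fun k => k n) (congrArg ConcreteCategory.hom (CechOX.app_naturality η i.op))
  refine (σ_app g' W₂ F V _).trans ?_
  show _ = G.presheaf.map (homOfLE (CechOX.image_preimage_mono (g'.preimage_mono h) (g' ⁻¹ᵁ V))).op ((σ g' W F).app V n)
  rw [σ_app]
  refine (congrArg (fun k => G.presheaf.map (homOfLE (le_img g' W₂ V)).op k) hn).trans ?_
  exact (res_res G _ _ (homOfLE ((le_img g' W₂ V).trans (g'.preimage_mono
    (CechOX.image_preimage_mono h V)))).op _).trans (res_res G _ _ _ _).symm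

end Groth.Agent.H83.RelCechBC
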